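import Mathlib

/-!
# Project REED (helper20): every non-trivial irreducible complex representation of `²G₂(q)`, `q = 3^(2m+1) ≥ 27`,
has degree at least `q² - q + 1` (S2343)

Elementary proof by counting dimensions of invariants (no character table).  `CharData` is what we use of a complex
representation (character `χ`, dimension `I A` of the invariants of a subgroup `A`); `DegData` is what we use of the
group: `Z = Z(U)`, a complement `X` of `Z` in the elementary abelian `U₂ = [U,U]` with `q` conjugates partitioning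
`U₂ \ Z`, an involution `i` inverting `Z`, a Sylow 2-subgroup `P ∋ i` of order `8` with all involutions conjugate.
-/

set_option autoImplicit false

namespace Cfsg.Agent.Lib.Helper20.ReeD

/-- what we use of a complex representation of degree `k` -/
structure CharData (G : Type*) [Group G] (k : ℕ) where
  χ : G → ℂ
  I : Subgroup G → ℕ
  conj : ∀ g x, χ (g * x * g⁻¹) = χ x
  one : χ 1 = k
  sum : ∀ (A : Subgroup G) [Fintype A], ∑ a : A, χ a = (Fintype.card A : ℂ) * I A
  mono : ∀ A B : Subgroup G, A ≤ B → I B ≤ I A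

/-- what we use of the group `²G₂(q)` -/
structure DegData (G : Type*) [Group G] (q : ℕ) (ι : Type*) where
  Z : Subgroup G
  X : Subgroup G
  U₂ : Subgroup G
  P : Subgroup G
  i : G
  x : ι → G
  cardι : Nat.card ι = q
  cardZ : Nat.card Z = q
  cardX : Nat.card X = q
  cardU₂ : Nat.card U₂ = q * q
  cardP : Nat.card P = 8
  Z_le : Z ≤ U₂
  X_le : X ≤ U₂
  conj_le : ∀ s, ∀ y ∈ X, x s * y * (x s)⁻¹ ∈ U₂
  conj_disj : ∀ s s', s ≠ s' → ∀ y ∈ X, ∀ y' ∈ X, x s * y * (x s)⁻¹ = x s' * y' * (x s')⁻¹ → y = 1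
  conj_Z : ∀ s, ∀ y ∈ X, x s * y * (x s)⁻¹ ∈ Z → y = 1
  Zconj : ∀ z ∈ Z, z ≠ 1 → ∀ z' ∈ Z, z' ≠ 1 → ∃ g, g * z * g⁻¹ = z'
  i_sq : i * i = 1
  i_ne : i ≠ 1
  i_inv : ∀ z ∈ Z, i * z * i⁻¹ = z⁻¹
  i_mem : i ∈ P
  Pconj : ∀ t ∈ P, t ≠ 1 → ∃ g, g * i * g⁻¹ = t

end Cfsg.Agent.Lib.Helper20.ReeD
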