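import Mathlib
import Cfsg.Agent.Lib.Helper20.ReeD.Defs
import Cfsg.Agent.Lib.Helper23.ReeDDih
import Cfsg.Agent.Lib.Helper51.ReeDConst
import Cfsg.Agent.Lib.Helper87.ReeDArith
import Cfsg.Agent.Lib.Helper87.ReeDSpread

/-! # REED (helper20): assembly of the abstract degree bound from the modules -/

set_option autoImplicit false
set_option linter.style.haveILetI false

namespace Cfsg.Agent.Lib.Helper20.ReeD

/-- **the abstract degree bound** (helper20) -/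
theorem degree_bound {G : Type*} [Group G] [Finite G] {m : ℕ} {ι : Type*}
    (D : DegData G (3 ^ (2 * m + 1)) ι) {k : ℕ} (C : CharData G k) (hN : C.I D.Z < k) :
    (3 ^ (2 * m + 1)) ^ 2 - 3 ^ (2 * m + 1) + 1 ≤ k := by
  classical
  -- an index-3 subgroup `Z₁` of `Z`
  have hdvd : 3 ^ (2 * m) ∣ Nat.card D.Z := by rw [D.cardZ, pow_succ]; exact dvd_mul_right _ _
  haveI : Fact (Nat.Prime 3) := ⟨Nat.prime_three⟩
  obtain ⟨K₁, hK₁⟩ := Sylow.exists_subgroup_card_pow_prime (G := ↥D.Z) 3 hdvd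
  set Z₁ : Subgroup G := K₁.map D.Z.subtype with hZ₁
  have hZ₁le : Z₁ ≤ D.Z := by
    rintro _ ⟨y, -, rfl⟩
    exact y.2
  have hcardZ₁ : Nat.card Z₁ = 3 ^ (2 * m) := by
    rw [hZ₁, Subgroup.card_map_of_injective D.Z.subtype_injective, hK₁]
  -- Fintype instances
  letI : Fintype ↥D.Z := Fintype.ofFinite _
  letI : Fintype ↥Z₁ := Fintype.ofFinite _
  letI : Fintype ↥D.X := Fintype.ofFinite _
  letI : Fintype ↥D.U₂ := Fintype.ofFinite _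
  letI : Fintype ↥D.P := Fintype.ofFinite _
  letI : Fintype ↥(D.Z ⊔ Subgroup.zpowers D.i) := Fintype.ofFinite _
  letI : Fintype ↥(Z₁ ⊔ Subgroup.zpowers D.i) := Fintype.ofFinite _
  have cZ : (Fintype.card ↥D.Z : ℂ) = (3 : ℂ) ^ (2 * m + 1) := by
    rw [← Nat.card_eq_fintype_card, D.cardZ]; push_cast; rfl
  have cZ₁ : (Fintype.card ↥Z₁ : ℂ) = (3 : ℂ) ^ (2 * m) := by
    rw [← Nat.card_eq_fintype_card, hcardZ₁]; push_cast; rfl
  have cX : (Fintype.card ↥D.X : ℂ) = (3 : ℂ) ^ (2 * m + 1) := by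
    rw [← Nat.card_eq_fintype_card, D.cardX]; push_cast; rfl
  have cU : (Fintype.card ↥D.U₂ : ℂ) = (3 : ℂ) ^ (2 * m + 1) * (3 : ℂ) ^ (2 * m + 1) := by
    rw [← Nat.card_eq_fintype_card, D.cardU₂]; push_cast; rfl
  have cP : (Fintype.card ↥D.P : ℂ) = 8 := by
    rw [← Nat.card_eq_fintype_card, D.cardP]; push_cast; rfl
  have h3pos : (3 : ℂ) ^ (2 * m + 1) ≠ 0 := pow_ne_zero _ (by norm_num)
  have h3pos' : (3 : ℂ) ^ (2 * m) ≠ 0 := pow_ne_zero _ (by norm_num)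
  -- the common value on `Z \ 1`
  have hZnt : ∃ z₀ ∈ D.Z, z₀ ≠ 1 := by
    by_contra hcon
    push Not at hcon
    have : D.Z = ⊥ := (Subgroup.eq_bot_iff_forall _).mpr hcon
    have h1 : Nat.card D.Z = 1 := by rw [this]; exact Subgroup.card_bot
    rw [D.cardZ] at h1
    have : 3 ≤ 3 ^ (2 * m + 1) := by
      calc 3 = 3 ^ 1 := by norm_num
        _ ≤ 3 ^ (2 * m + 1) := Nat.pow_le_pow_right (by norm_num) (by omega)
    omega
  obtain ⟨z₀, hz₀, hz₀1⟩ := hZnt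
  have hconst : ∀ z ∈ D.Z, z ≠ 1 → C.χ z = C.χ z₀ := by
    intro z hz hz1
    obtain ⟨g, hg⟩ := D.Zconj z₀ hz₀ hz₀1 z hz hz1
    rw [← hg, C.conj]
  -- E1, E2
  have E1 := Cfsg.Agent.Lib.Helper51.ReeD.sum_of_const C.χ D.Z (C.χ z₀) hconst
  rw [C.sum D.Z, C.one, cZ] at E1
  have E2 := Cfsg.Agent.Lib.Helper51.ReeD.sum_of_const C.χ Z₁ (C.χ z₀) (fun z hz hz1 => hconst z (hZ₁le hz) hz1)
  rw [C.sum Z₁, C.one, cZ₁] at E2
  -- E3, E4
  have hoddZ : Odd (Nat.card D.Z) := by rw [D.cardZ]; exact Odd.pow (by decide)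
  have hoddZ₁ : Odd (Nat.card Z₁) := by rw [hcardZ₁]; exact Odd.pow (by decide)
  obtain ⟨cD, sD⟩ := Cfsg.Agent.Lib.Helper23.ReeD.dihedral_sum C.χ C.conj D.Z hoddZ D.i D.i_sq D.i_ne D.i_inv
  obtain ⟨cD₁, sD₁⟩ := Cfsg.Agent.Lib.Helper23.ReeD.dihedral_sum C.χ C.conj Z₁ hoddZ₁ D.i D.i_sq D.i_ne
    (fun a ha => D.i_inv a (hZ₁le ha))
  rw [C.sum, C.sum D.Z, cD, cZ] at sD
  rw [C.sum, C.sum Z₁, cD₁, cZ₁] at sD₁
  have E3 : (C.I D.Z : ℂ) + C.χ D.i = 2 * (C.I (D.Z ⊔ Subgroup.zpowers D.i) : ℂ) := by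
    apply mul_left_cancel₀ h3pos
    push_cast at sD
    rw [cZ] at sD
    linear_combination -sD
  have E4 : (C.I Z₁ : ℂ) + C.χ D.i = 2 * (C.I (Z₁ ⊔ Subgroup.zpowers D.i) : ℂ) := by
    apply mul_left_cancel₀ h3pos'
    push_cast at sD₁
    rw [cZ₁] at sD₁
    linear_combination -sD₁
  -- E5
  have sS := Cfsg.Agent.Lib.Helper87.ReeD.spread_sum C.χ C.conj D
  rw [C.sum D.U₂, C.sum D.X, C.sum D.Z, C.one, cU, cX, cZ] at sS
  have E5 : (3 : ℂ) ^ (2 * m + 1) * (C.I D.U₂ : ℂ) + k = (3 : ℂ) ^ (2 * m + 1) * (C.I D.X : ℂ) + C.I D.Z := by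
    apply mul_left_cancel₀ h3pos
    push_cast at sS
    linear_combination sS
  -- E6
  have hPc : ∀ t ∈ D.P, t ≠ 1 → C.χ t = C.χ D.i := by
    intro t ht ht1
    obtain ⟨g, hg⟩ := D.Pconj t ht ht1
    rw [← hg, C.conj]
  have E6 := Cfsg.Agent.Lib.Helper51.ReeD.sum_of_const C.χ D.P (C.χ D.i) hPc
  rw [C.sum D.P, C.one, cP] at E6
  have E6' : (k : ℂ) + 7 * C.χ D.i = 8 * (C.I D.P : ℂ) := by linear_combination -E6
  -- monotonicity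
  have h1 : C.I (D.Z ⊔ Subgroup.zpowers D.i) ≤ C.I D.Z := C.mono _ _ le_sup_left
  have h2 : C.I (D.Z ⊔ Subgroup.zpowers D.i) ≤ C.I (Z₁ ⊔ Subgroup.zpowers D.i) :=
    C.mono _ _ (sup_le_sup_right hZ₁le _)
  have h3 : C.I D.U₂ ≤ C.I D.X := C.mono _ _ D.X_le
  exact Cfsg.Agent.Lib.Helper87.ReeD.arith m k (C.I D.Z) (C.I Z₁) _ _ (C.I D.X) (C.I D.U₂) (C.I D.P) (C.χ z₀) (C.χ D.i)
    E1.symm E2.symm E3 E4 E5 E6' h1 h2 h3 hN

end Cfsg.Agent.Lib.Helper20.ReeD
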