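import Mathlib
import Cfsg.Agent.Lib.Helper20.ReeM.ThreeAbs
import Cfsg.Agent.Lib.Helper20.ReeD.Defs

/-!
# REED (helper20): the `DegData` of a group with Ree coordinates (`RData` of project REEM)
-/

set_option autoImplicit false
set_option linter.unusedSectionVars false

namespace Cfsg.Agent.Lib.Helper20.ReeD

open Cfsg.Agent.Lib.Helper20.ReeM

variable {F : Type*} [Field F] {n : ℕ} {G : Type*} [Group G] (D₀ : RData F n G)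

theorem R_mul_U₂ (u v u' v' : F) : D₀.R 0 u v * D₀.R 0 u' v' = D₀.R 0 (u + u') (v + v') := by
  rw [D₀.mul]
  congr 1 <;> ring

theorem R_inv_U₂ (u v : F) : (D₀.R 0 u v)⁻¹ = D₀.R 0 (-u) (-v) := by
  apply inv_eq_of_mul_eq_one_right
  rw [R_mul_U₂, add_neg_cancel, add_neg_cancel, D₀.zero]

/-- `U₂ = {R 0 u v}` -/
def subU₂ : Subgroup G where
  carrier := {g | ∃ u v, g = D₀.R 0 u v}
  one_mem' := ⟨0, 0, D₀.zero.symm⟩
  mul_mem' := by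
    rintro _ _ ⟨u, v, rfl⟩ ⟨u', v', rfl⟩
    exact ⟨_, _, R_mul_U₂ D₀ u v u' v'⟩
  inv_mem' := by
    rintro _ ⟨u, v, rfl⟩
    exact ⟨_, _, R_inv_U₂ D₀ u v⟩

/-- `Z = {R 0 0 v}` -/
def subZ : Subgroup G where
  carrier := {g | ∃ v, g = D₀.R 0 0 v}
  one_mem' := ⟨0, D₀.zero.symm⟩
  mul_mem' := by
    rintro _ _ ⟨v, rfl⟩ ⟨v', rfl⟩
    exact ⟨v + v', by rw [R_mul_U₂, add_zero]⟩
  inv_mem' := by
    rintro _ ⟨v, rfl⟩
    exact ⟨-v, by rw [R_inv_U₂, neg_zero]⟩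

/-- `X = {R 0 u 0}` -/
def subX : Subgroup G where
  carrier := {g | ∃ u, g = D₀.R 0 u 0}
  one_mem' := ⟨0, D₀.zero.symm⟩
  mul_mem' := by
    rintro _ _ ⟨u, rfl⟩ ⟨u', rfl⟩
    exact ⟨u + u', by rw [R_mul_U₂, add_zero]⟩
  inv_mem' := by
    rintro _ ⟨u, rfl⟩
    exact ⟨-u, by rw [R_inv_U₂, neg_zero]⟩

theorem card_subZ : Nat.card (subZ D₀) = Nat.card F := by
  symm
  apply Nat.card_congr
  refine Equiv.ofBijective (fun v => ⟨D₀.R 0 0 v, v, rfl⟩) ⟨?_, ?_⟩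
  · intro v v' h
    exact (D₀.inj _ _ _ _ _ _ (congrArg Subtype.val h)).2.2
  · rintro ⟨_, v, rfl⟩
    exact ⟨v, rfl⟩

theorem card_subX : Nat.card (subX D₀) = Nat.card F := by
  symm
  apply Nat.card_congr
  refine Equiv.ofBijective (fun u => ⟨D₀.R 0 u 0, u, rfl⟩) ⟨?_, ?_⟩
  · intro u u' h
    exact (D₀.inj _ _ _ _ _ _ (congrArg Subtype.val h)).2.1
  · rintro ⟨_, u, rfl⟩
    exact ⟨u, rfl⟩

theorem card_subU₂ : Nat.card (subU₂ D₀) = Nat.card F * Nat.card F := by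
  rw [← Nat.card_prod]
  symm
  apply Nat.card_congr
  refine Equiv.ofBijective (fun p : F × F => ⟨D₀.R 0 p.1 p.2, p.1, p.2, rfl⟩) ⟨?_, ?_⟩
  · rintro ⟨u, v⟩ ⟨u', v'⟩ h
    obtain ⟨-, h2, h3⟩ := D₀.inj _ _ _ _ _ _ (congrArg Subtype.val h)
    exact Prod.ext h2 h3
  · rintro ⟨_, u, v, rfl⟩
    exact ⟨(u, v), rfl⟩

theorem conj_x (hn : n ≠ 0) (s u v : F) :
    D₀.R s 0 0 * D₀.R 0 u v * (D₀.R s 0 0)⁻¹ = D₀.R 0 u (v + s * u) := by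
  rw [mul_inv_eq_iff_eq_mul, D₀.mul, D₀.mul, zero_pow hn]
  congr 1 <;> ring

/-- the group-theoretic part of `DegData`, from Ree coordinates; the torus and the Sylow 2-subgroup are given. -/
noncomputable def degDataOf [Finite F] (hn : n ≠ 0) (q : ℕ) (hq : Nat.card F = q)
    (hT : ∀ v : F, v ≠ 0 → ∃ g : G, g * D₀.R 0 0 1 * g⁻¹ = D₀.R 0 0 v)
    (i : G) (i_sq : i * i = 1) (i_ne : i ≠ 1) (hi : ∀ v : F, i * D₀.R 0 0 v * i⁻¹ = D₀.R 0 0 (-v))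
    (P : Subgroup G) (cardP : Nat.card P = 8) (i_mem : i ∈ P)
    (Pconj : ∀ t ∈ P, t ≠ 1 → ∃ g, g * i * g⁻¹ = t) : DegData G q F where
  Z := subZ D₀
  X := subX D₀
  U₂ := subU₂ D₀
  P := P
  i := i
  x s := D₀.R s 0 0
  cardι := hq
  cardZ := by rw [card_subZ, hq]
  cardX := by rw [card_subX, hq]
  cardU₂ := by rw [card_subU₂, hq]
  cardP := cardP
  Z_le := by
    rintro _ ⟨v, rfl⟩
    exact ⟨0, v, rfl⟩
  X_le := by
    rintro _ ⟨u, rfl⟩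
    exact ⟨u, 0, rfl⟩
  conj_le := by
    rintro s _ ⟨u, rfl⟩
    exact ⟨u, 0 + s * u, conj_x D₀ hn s u 0⟩
  conj_disj := by
    rintro s s' hss _ ⟨u, rfl⟩ _ ⟨u', rfl⟩ h
    rw [conj_x D₀ hn, conj_x D₀ hn] at h
    obtain ⟨-, h2, h3⟩ := D₀.inj _ _ _ _ _ _ h
    subst h2
    have h4 : (s - s') * u = 0 := by linear_combination h3
    rcases mul_eq_zero.mp h4 with h5 | h5
    · exact absurd (sub_eq_zero.mp h5) hss
    · rw [h5, D₀.zero]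
  conj_Z := by
    rintro s _ ⟨u, rfl⟩ ⟨v, h⟩
    rw [conj_x D₀ hn] at h
    obtain ⟨-, h2, -⟩ := D₀.inj _ _ _ _ _ _ h
    rw [h2, D₀.zero]
  Zconj := by
    rintro _ ⟨v, rfl⟩ hv1 _ ⟨v', rfl⟩ hv'1
    have hv : v ≠ 0 := by
      rintro rfl
      exact hv1 D₀.zero
    have hv' : v' ≠ 0 := by
      rintro rfl
      exact hv'1 D₀.zero
    obtain ⟨g, hg⟩ := hT v hv
    obtain ⟨g', hg'⟩ := hT v' hv'
    refine ⟨g' * g⁻¹, ?_⟩
    rw [← hg, ← hg']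
    group
  i_sq := i_sq
  i_ne := i_ne
  i_inv := by
    rintro _ ⟨v, rfl⟩
    rw [hi, R_inv_U₂, neg_zero]
  i_mem := i_mem
  Pconj := Pconj

end Cfsg.Agent.Lib.Helper20.ReeD
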