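import Cfsg.Agent.Lib.Helper20.ReeM.Three
import Cfsg.Agent.Lib.Helper20.ReeD.OfRData
import Cfsg.Agent.Lib.Helper61.ReeW.Invol
import Cfsg.Agent.Lib.Helper20.ReeSimple

/-!
# REED (helper20): the `DegData` of `²G₂(q)`
-/

set_option autoImplicit false
set_option linter.unusedSectionVars false
set_option linter.style.haveILetI false

namespace Cfsg.Agent.Lib.Helper20.ReeD

open Cfsg.Lie Cfsg.Agent.Lib.Helper18 Cfsg.Agent.Lib.Helper61.ChevJ.G2Short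
  Cfsg.Agent.Lib.Helper61.ChevJ.G2Char3 Cfsg.Agent.Lib.Helper61.Ree Cfsg.Agent.Lib.Helper19.ReeAbs
  Cfsg.Agent.Lib.Helper91.Ree Cfsg.Agent.Lib.Helper20.ReeGlue Cfsg.Agent.Lib.Helper20.ReeTw
  Cfsg.Agent.Lib.Helper20.ReeUMul Cfsg.Agent.Lib.Helper20.ReeLayers Cfsg.Agent.Lib.Helper20.ReeM
  Cfsg.Agent.Lib.Helper61.ReeW

universe u

variable {K : Type u} [Field K] [Fintype K] {m : ℕ}

/-- conjugation of the central root elements by the torus -/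
theorem conj_Z_torus [CharP K 3] (hK : Fintype.card K = 3 ^ (2 * m + 1)) (c : Kˣ) (d : Kˣ)
    (hc : reeH (3 ^ m) c ∈ twistedG2 K (3 ^ m)) (v : K) :
    (⟨reeH (3 ^ m) c, hc⟩ : ↥(twistedG2 K (3 ^ m))) * (reeRData hK d).R 0 0 v *
      (⟨reeH (3 ^ m) c, hc⟩ : ↥(twistedG2 K (3 ^ m)))⁻¹ = (reeRData hK d).R 0 0 ((c : K) * v) := by
  apply Subtype.ext
  show reeH (3 ^ m) c * R m 0 0 v * (reeH (3 ^ m) c)⁻¹ = R m 0 0 ((c : K) * v)
  rw [R_conj (ReeGlue.hq_of_card hK), mul_zero, mul_zero]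

/-- The `DegData` of `²G₂(q)`. -/
theorem exists_degData (hm : 1 ≤ m) (hK : Fintype.card K = 3 ^ (2 * m + 1)) :
    ∃ D : DegData ↥(twistedG2 K (3 ^ m)) (3 ^ (2 * m + 1)) K, D.Z ≠ ⊥ := by
  classical
  haveI : CharP K 3 := Cfsg.Agent.S1101.charP_three hK
  have I : Inst (reeTw hK) m := inst_of hK (reeTw hK) rfl rfl rfl rfl
  set D₀ := reeRData hK (1 : Kˣ) with hD₀
  have hn : 3 * 3 ^ m ≠ 0 := by positivity
  have hq : Nat.card K = 3 ^ (2 * m + 1) := by rw [Nat.card_eq_fintype_card, hK]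
  -- the torus is transitive on `Z \ 1`
  have hT : ∀ v : K, v ≠ 0 → ∃ g : ↥(twistedG2 K (3 ^ m)), g * D₀.R 0 0 1 * g⁻¹ = D₀.R 0 0 v := by
    intro v hv
    refine ⟨⟨reeH (3 ^ m) (Units.mk0 v hv), I.hHmem _⟩, ?_⟩
    rw [hD₀, conj_Z_torus hK, Units.val_mk0, mul_one]
  -- the involution
  set i : ↥(twistedG2 K (3 ^ m)) := h0T K m with hi
  have hi' : i = ⟨reeH (3 ^ m) (-1 : Kˣ), I.hHmem _⟩ := Subtype.ext (Cfsg.Agent.Lib.Helper61.ReeInv.h0_eq_reeH m)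
  have hiconj : ∀ v : K, i * D₀.R 0 0 v * i⁻¹ = D₀.R 0 0 (-v) := by
    intro v
    rw [hi', hD₀, conj_Z_torus hK]
    congr 1
    rw [Units.val_neg, Units.val_one, neg_one_mul]
  -- a Sylow 2-subgroup containing `i`
  haveI : Fact (Nat.Prime 2) := ⟨Nat.prime_two⟩
  have hpg : IsPGroup 2 (Subgroup.zpowers i) := by
    apply IsPGroup.of_card (n := 1)
    rw [Nat.card_zpowers, orderOf_h0T, pow_one]
  obtain ⟨P, hP⟩ := hpg.exists_le_sylow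
  obtain ⟨-, hS⟩ := Cfsg.Agent.S1152.result hK (h0T K m) h0T_mem_H h0T_ne_one h0T_sq
  obtain ⟨hP8, hPexp⟩ := hS P
  have hPconj : ∀ t ∈ (P : Subgroup ↥(twistedG2 K (3 ^ m))), t ≠ 1 → ∃ g, g * i * g⁻¹ = t := by
    intro t ht ht1
    have hto : orderOf t = 2 := by
      apply orderOf_eq_prime
      · rw [pow_two]; exact hPexp t ht
      · exact ht1
    obtain ⟨g, hg⟩ := invol_conj hm hK t hto
    exact ⟨g, hg.symm⟩
  refine ⟨degDataOf D₀ hn _ hq hT i h0T_sq h0T_ne_one hiconj (P : Subgroup ↥(twistedG2 K (3 ^ m))) hP8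
    (hP (Subgroup.mem_zpowers i)) hPconj, ?_⟩
  -- `Z ≠ ⊥`
  intro hbot
  have h1 : D₀.R 0 0 1 ∈ (degDataOf D₀ hn _ hq hT i h0T_sq h0T_ne_one hiconj
      (P : Subgroup ↥(twistedG2 K (3 ^ m))) hP8 (hP (Subgroup.mem_zpowers i)) hPconj).Z := ⟨1, rfl⟩
  rw [hbot, Subgroup.mem_bot, ← D₀.zero] at h1
  exact one_ne_zero (D₀.inj _ _ _ _ _ _ h1).2.2

end Cfsg.Agent.Lib.Helper20.ReeD
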